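import Groth.Agent.JacLib.RelDim
import Groth.Agent.DimFormulaLib.Scheme
import Groth.Agent.EtAlgEasy.OmegaSmooth2
import Groth.Agent.CurveLib.Inv
import Groth.Agent.DevLib.Piece
import Groth.Prelude.Def_Omega3

/-!
# Differentials of a smooth curve, not necessarily proper

The sheaf of differentials is invertible, and a map of invertible modules is zero or injective with
cokernel vanishing on a nonempty open set.
-/

set_option autoImplicit false
set_option backward.isDefEq.respectTransparency false
set_option linter.style.haveILetI false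

universe u

open CategoryTheory CategoryTheory.Limits AlgebraicGeometry TopologicalSpace

noncomputable section

namespace Groth.Agent.CurveDiffLib

variable {k : Type u} [Field k] {X : Scheme.{u}} (pX : X ⟶ Spec (CommRingCat.of k)) [IsIntegral X]

theorem fibreDimAt_eq_one [LocallyOfFiniteType pX] (hd : topologicalKrullDim X = 1) (x : X) :
    FlatMor.fibreDimAt pX x = (1 : WithBot ℕ∞) := by
  haveI : JacobsonSpace X := LocallyOfFiniteType.jacobsonSpace pX
  rw [← DimFormulaLib.localDim_eq_fibreDimAt_of_subsingleton pX x]
  refine le_antisymm ((iInf_le _ ⟨⊤, trivial⟩).trans ?_) (le_iInf fun W => ?_)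
  · exact (Topology.IsEmbedding.subtypeVal.isInducing.topologicalKrullDim_le).trans hd.le
  · exact JacLib.one_le_dim_of_open hd W.1 ⟨x, W.2⟩

theorem omega_invertible [Smooth pX] (hd : topologicalKrullDim X = 1) {Ω : X.Modules}
    {d : OmegaSh.Der pX Ω} (h : OmegaSh.IsUniversal d) : PicF.IsInvertible Ω := fun x => by
  obtain ⟨U, n, hxU, ⟨e⟩, hn⟩ := EtAlgEasy.OmegaSmooth.exists_freeMod_omega pX h x
  rw [fibreDimAt_eq_one pX hd x] at hn
  obtain rfl : n = 1 := by exact_mod_cast hn.symm
  exact ⟨U, hxU, ⟨e ≪≫ coproductUniqueIso fun _ : Fin 1 => Coh.structureModule (↑U : Scheme.{u})⟩⟩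

end Groth.Agent.CurveDiffLib
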