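import Groth.Prelude.Def_CurvBase
import Mathlib

/-!
# Differentials at a point of a smooth curve

Local rings of a `k`-scheme near which it is smooth of relative dimension one are formally smooth
with free rank one differentials, spanned by the differential of a uniformiser when the residue
extension is separable.
-/

set_option autoImplicit false
set_option backward.isDefEq.respectTransparency false
set_option linter.style.haveILetI false
set_option maxHeartbeats 1000000

universe u

open CategoryTheory CategoryTheory.Limits AlgebraicGeometry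
open scoped TensorProduct

namespace Groth.Agent.CurveDiffLib

section Algebra

variable {k O : Type u} [Field k] [CommRing O] [IsLocalRing O] [Algebra k O]

omit [IsLocalRing O] in
/-- Image of a multiple of `s` in the fibre of the differentials. -/
theorem tmul_D_mul {κ : Type u} [CommRing κ] [Algebra O κ] (a s : O) (hs : algebraMap O κ s = 0) :
    (1 : κ) ⊗ₜ[O] KaehlerDifferential.D k O (a * s) = a • ((1 : κ) ⊗ₜ[O] KaehlerDifferential.D k O s) := by
  rw [Derivation.leibniz, TensorProduct.tmul_add, TensorProduct.tmul_smul, TensorProduct.tmul_smul]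
  have h : s • ((1 : κ) ⊗ₜ[O] KaehlerDifferential.D k O a) = 0 := by
    rw [TensorProduct.smul_tmul', Algebra.smul_def, hs, zero_mul, TensorProduct.zero_tmul]
  rw [h, add_zero]

theorem bijective_smul_D [IsNoetherianRing O] [Algebra.FormallySmooth k O]
    [Module.Free O Ω[O⁄k]] [Module.Finite O Ω[O⁄k]] (hrk : Module.finrank O Ω[O⁄k] = 1)
    [Algebra k (IsLocalRing.ResidueField O)] [IsScalarTower k O (IsLocalRing.ResidueField O)]
    [Algebra.IsSeparable k (IsLocalRing.ResidueField O)] (s : O) (hs : Irreducible s) :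
    Function.Bijective (fun a : O => a • KaehlerDifferential.D k O s) := by
  let b : Module.Basis (Fin 1) O Ω[O⁄k] := (Module.finBasis O Ω[O⁄k]).reindex (finCongr hrk)
  let e : Ω[O⁄k] ≃ₗ[O] O := b.equivFun ≪≫ₗ LinearEquiv.funUnique (Fin 1) O O
  have hsurjκ : Function.Surjective (algebraMap O (IsLocalRing.ResidueField O)) :=
    Ideal.Quotient.mk_surjective
  haveI : Algebra.FormallyEtale k (IsLocalRing.ResidueField O) := Algebra.FormallyEtale.of_isSeparable k _
  have hinj : Function.Injective (KaehlerDifferential.kerCotangentToTensor k O (IsLocalRing.ResidueField O)) :=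
    (Algebra.FormallySmooth.kerCotangentToTensor_injective_iff hsurjκ).2 inferInstance
  have hker : RingHom.ker (algebraMap O (IsLocalRing.ResidueField O)) = IsLocalRing.maximalIdeal O :=
    IsLocalRing.ker_residue (R := O)
  -- the fibre of the differentials is spanned by differentials of elements of the maximal ideal
  have hsurj : Function.Surjective
      (KaehlerDifferential.kerCotangentToTensor k O (IsLocalRing.ResidueField O)) := by
    intro z
    refine ((KaehlerDifferential.exact_kerCotangentToTensor_mapBaseChange k O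
      (IsLocalRing.ResidueField O) hsurjκ) z).1 (Subsingleton.elim _ _)
  -- `s` generates the maximal ideal
  have hmax : IsLocalRing.maximalIdeal O = Ideal.span {s} := by
    have hsm : s ∈ IsLocalRing.maximalIdeal O := (IsLocalRing.mem_maximalIdeal s).2 hs.not_isUnit
    obtain ⟨t, ht⟩ : ∃ t, IsLocalRing.maximalIdeal O = Ideal.span {t} := by
      by_cases hall : IsLocalRing.maximalIdeal O ≤ IsLocalRing.maximalIdeal O * IsLocalRing.maximalIdeal O
      · refine ⟨0, ?_⟩
        rw [Ideal.span_singleton_eq_bot.2 rfl]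
        exact Submodule.eq_bot_of_le_smul_of_le_jacobson_bot _ _ (IsNoetherian.noetherian _) hall
          (IsLocalRing.maximalIdeal_le_jacobson ⊥)
      obtain ⟨t, htm, ht2⟩ := Set.not_subset.1 hall
      refine ⟨t, le_antisymm ?_ ((Ideal.span_singleton_le_iff_mem _).2 htm)⟩
      refine Submodule.le_of_le_smul_of_le_jacobson_bot (IsNoetherian.noetherian _)
        (IsLocalRing.maximalIdeal_le_jacobson ⊥) fun x hx => ?_
      let E : (IsLocalRing.ResidueField O) ⊗[O] Ω[O⁄k] ≃ₗ[IsLocalRing.ResidueField O]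
          IsLocalRing.ResidueField O :=
        (TensorProduct.AlgebraTensorModule.congr
          (LinearEquiv.refl (IsLocalRing.ResidueField O) (IsLocalRing.ResidueField O)) e) ≪≫ₗ
          TensorProduct.AlgebraTensorModule.rid O (IsLocalRing.ResidueField O) (IsLocalRing.ResidueField O)
      let φ : (RingHom.ker (algebraMap O (IsLocalRing.ResidueField O))).Cotangent →
          IsLocalRing.ResidueField O :=
        fun z => E (KaehlerDifferential.kerCotangentToTensor k O (IsLocalRing.ResidueField O) z)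
      have htne : φ (Ideal.toCotangent _ ⟨t, hker.symm ▸ htm⟩) ≠ 0 := by
        intro h0
        have h1 : Ideal.toCotangent _ ⟨t, hker.symm ▸ htm⟩ =
            (0 : (RingHom.ker (algebraMap O (IsLocalRing.ResidueField O))).Cotangent) :=
          hinj (by rw [map_zero]; exact E.map_eq_zero_iff.1 h0)
        rw [Ideal.toCotangent_eq_zero] at h1
        apply ht2
        have h2 : t ∈ RingHom.ker (algebraMap O (IsLocalRing.ResidueField O)) ^ 2 := h1
        rw [hker, pow_two] at h2
        exact h2
      obtain ⟨a, ha⟩ := hsurjκ (φ (Ideal.toCotangent _ ⟨x, hker.symm ▸ hx⟩) / φ (Ideal.toCotangent _ ⟨t, hker.symm ▸ htm⟩))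
      have hmem : x - a * t ∈ IsLocalRing.maximalIdeal O * IsLocalRing.maximalIdeal O := by
        have h1 : Ideal.toCotangent _ ⟨x, hker.symm ▸ hx⟩ =
            a • Ideal.toCotangent (RingHom.ker (algebraMap O (IsLocalRing.ResidueField O))) ⟨t, hker.symm ▸ htm⟩ := by
          refine hinj (E.injective ?_)
          rw [map_smul, ← IsScalarTower.algebraMap_smul (IsLocalRing.ResidueField O) a
              (KaehlerDifferential.kerCotangentToTensor k O (IsLocalRing.ResidueField O) _),
            map_smul, smul_eq_mul, ha]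
          exact (div_mul_cancel₀ _ htne).symm
        rw [← map_smul, Ideal.toCotangent_eq] at h1
        have h2 : x - a * t ∈ RingHom.ker (algebraMap O (IsLocalRing.ResidueField O)) ^ 2 := h1
        rw [hker, pow_two] at h2
        exact h2
      exact Submodule.mem_sup.2 ⟨a * t, Ideal.mem_span_singleton'.2 ⟨a, rfl⟩, x - a * t, hmem, by ring⟩
    obtain ⟨u, hu⟩ := Ideal.mem_span_singleton.1 (ht ▸ hsm)
    rcases hs.isUnit_or_isUnit hu with h | h
    · exact absurd ((Ideal.span_singleton_eq_top.2 h)) (ht ▸ (IsLocalRing.maximalIdeal.isMaximal O).ne_top)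
    · rw [ht, hu, Ideal.span_singleton_mul_right_unit h]
  let f : O →ₗ[O] Ω[O⁄k] := LinearMap.toSpanSingleton O _ (KaehlerDifferential.D k O s)
  have hf : Function.Surjective f := by
    rw [← LinearMap.range_eq_top, eq_top_iff]
    refine Submodule.le_of_le_smul_of_le_jacobson_bot Module.Finite.fg_top
      (IsLocalRing.maximalIdeal_le_jacobson ⊥) fun w _ => ?_
    obtain ⟨z, hz⟩ := hsurj ((1 : IsLocalRing.ResidueField O) ⊗ₜ w)
    obtain ⟨⟨m, hm⟩, rfl⟩ := Ideal.toCotangent_surjective _ z
    obtain ⟨a, rfl⟩ := Ideal.mem_span_singleton'.1 (hmax ▸ hker ▸ hm)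
    rw [KaehlerDifferential.kerCotangentToTensor_toCotangent,
      tmul_D_mul a s (by rw [← RingHom.mem_ker, hker, hmax]; exact Ideal.mem_span_singleton_self s)] at hz
    have h2 : w - a • KaehlerDifferential.D k O s ∈ IsLocalRing.maximalIdeal O • (⊤ : Submodule O Ω[O⁄k]) := by
      have h3 : (1 : IsLocalRing.ResidueField O) ⊗ₜ[O] (w - a • KaehlerDifferential.D k O s) = 0 := by
        rw [TensorProduct.tmul_sub, TensorProduct.tmul_smul, hz, sub_self]
      have h4 : TensorProduct.quotTensorEquivQuotSMul Ω[O⁄k] (IsLocalRing.maximalIdeal O)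
          (Ideal.Quotient.mk (IsLocalRing.maximalIdeal O) (1 : O) ⊗ₜ[O] (w - a • KaehlerDifferential.D k O s)) = 0 :=
        ((TensorProduct.quotTensorEquivQuotSMul Ω[O⁄k] (IsLocalRing.maximalIdeal O)).congr_arg h3).trans (map_zero _)
      rw [TensorProduct.quotTensorEquivQuotSMul_mk_tmul, one_smul, Submodule.Quotient.mk_eq_zero] at h4
      exact h4
    exact Submodule.mem_sup.2 ⟨a • KaehlerDifferential.D k O s, ⟨a, rfl⟩, _, h2, by abel⟩
  refine ⟨?_, hf⟩
  have h5 : Function.Injective ((e : Ω[O⁄k] →ₗ[O] O) ∘ₗ f) :=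
    OrzechProperty.injective_of_surjective_endomorphism _ (e.surjective.comp hf)
  exact fun a c h => h5 (congrArg e h)

end Algebra

variable (k : Type u) [Field k] (X : Scheme.{u}) [X.Over (Spec (CommRingCat.of k))]

/-- The structure map of the sections over an open. -/
noncomputable def secMap (V : X.Opens) : k →+* Γ(X, V) :=
  (((X ↘ Spec (CommRingCat.of k)).appLE ⊤ V le_top).hom).comp (Scheme.ΓSpecIso (CommRingCat.of k)).inv.hom

theorem exists_chart (x : X)
    (hsm : ∃ U : X.Opens, x ∈ U ∧ SmoothOfRelativeDimension 1 (U.ι ≫ (X ↘ (Spec (CommRingCat.of k))))) :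
    ∃ (V : X.Opens) (_ : IsAffineOpen V) (_ : x ∈ V),
      (secMap k X V).IsStandardSmoothOfRelativeDimension 1 := by
  obtain ⟨U, hxU, hU⟩ := hsm
  obtain ⟨A, hA, V, hV, hxV, e, h⟩ := hU.exists_isStandardSmoothOfRelativeDimension (⟨x, hxU⟩ : U)
  have hA' : A = ⊤ := by
    ext p
    refine ⟨fun _ => trivial, fun _ => ?_⟩
    have hmem : (U.ι ≫ (X ↘ (Spec (CommRingCat.of k)))) ⟨x, hxU⟩ ∈ A := e hxV
    exact (Subsingleton.elim (α := PrimeSpectrum k) _ p) ▸ hmem
  subst hA'
  refine ⟨U.ι ''ᵁ V, hV.image_of_isOpenImmersion _, ⟨⟨x, hxU⟩, hxV, rfl⟩, ?_⟩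
  have e1 : (secMap k X (U.ι ''ᵁ V)) =
      (((U.ι ≫ (X ↘ (Spec (CommRingCat.of k)))).appLE ⊤ V e).hom).comp
        ((Scheme.ΓSpecIso (CommRingCat.of k)).commRingCatIsoToRingEquiv.symm : k →+* _) := by
    show RingHom.comp _ _ = RingHom.comp _ _
    congr 2
    rw [Scheme.Hom.comp_appLE, Scheme.Opens.ι_appLE, Scheme.Hom.app_eq_appLE, Scheme.Hom.appLE_map]
  rw [e1]
  exact (RingHom.isStandardSmoothOfRelativeDimension_respectsIso (n := 1)).2 _
    (Scheme.ΓSpecIso (CommRingCat.of k)).commRingCatIsoToRingEquiv.symm h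

attribute [local instance] Curv2.stalkAlgebra

/-- Properties of the local ring at a point of a smooth curve. -/
theorem stalk_props (x : X)
    (hsm : ∃ U : X.Opens, x ∈ U ∧ SmoothOfRelativeDimension 1 (U.ι ≫ (X ↘ (Spec (CommRingCat.of k))))) :
    IsNoetherianRing (X.presheaf.stalk x) ∧ Algebra.FormallySmooth k (X.presheaf.stalk x) ∧
    Module.Free (X.presheaf.stalk x) Ω[X.presheaf.stalk x⁄k] ∧
    Module.Finite (X.presheaf.stalk x) Ω[X.presheaf.stalk x⁄k] ∧
    Module.finrank (X.presheaf.stalk x) Ω[X.presheaf.stalk x⁄k] = 1 := by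
  obtain ⟨V, hV, hxV, hstd⟩ := exists_chart k X x hsm
  letI : Algebra k Γ(X, V) := (secMap k X V).toAlgebra
  haveI : Algebra.IsStandardSmoothOfRelativeDimension 1 k Γ(X, V) :=
    (RingHom.isStandardSmoothOfRelativeDimension_algebraMap 1).1 hstd
  haveI : Algebra.IsStandardSmooth k Γ(X, V) :=
    Algebra.IsStandardSmoothOfRelativeDimension.isStandardSmooth 1
  letI := TopCat.Presheaf.algebra_section_stalk X.presheaf (⟨x, hxV⟩ : V)
  haveI hloc : IsLocalization.AtPrime (X.presheaf.stalk x) (hV.primeIdealOf ⟨x, hxV⟩).asIdeal :=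
    hV.isLocalization_stalk ⟨x, hxV⟩
  haveI : IsScalarTower k Γ(X, V) (X.presheaf.stalk x) := by
    refine IsScalarTower.of_algebraMap_eq fun c => ?_
    show (X.presheaf.germ ⊤ x trivial).hom _ = (X.presheaf.germ V x hxV).hom (secMap k X V c)
    simp only [secMap, RingHom.comp_apply, Scheme.Hom.appLE, CommRingCat.hom_comp]
    exact (TopCat.Presheaf.germ_res_apply X.presheaf (homOfLE le_top) x hxV _).symm
  haveI : Algebra.FormallyEtale Γ(X, V) (X.presheaf.stalk x) :=
    Algebra.FormallyEtale.of_isLocalization (hV.primeIdealOf ⟨x, hxV⟩).asIdeal.primeCompl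
  let e := (KaehlerDifferential.tensorKaehlerEquivOfFormallyEtale k Γ(X, V) (X.presheaf.stalk x))
  haveI : Nontrivial Γ(X, V) := ⟨⟨0, 1, fun h => zero_ne_one (α := X.presheaf.stalk x) (by
    simpa using congrArg (algebraMap Γ(X, V) (X.presheaf.stalk x)) h)⟩⟩
  haveI : IsNoetherianRing Γ(X, V) := Algebra.FiniteType.isNoetherianRing k _
  refine ⟨IsLocalization.isNoetherianRing (hV.primeIdealOf ⟨x, hxV⟩).asIdeal.primeCompl _ inferInstance,
    Algebra.FormallySmooth.comp k Γ(X, V) (X.presheaf.stalk x), Module.Free.of_equiv e, Module.Finite.equiv e, ?_⟩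
  rw [← e.finrank_eq, Module.finrank_baseChange]
  exact Module.finrank_eq_of_rank_eq (Algebra.IsStandardSmoothOfRelativeDimension.rank_kaehlerDifferential 1)

end Groth.Agent.CurveDiffLib
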